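import Cfsg.Agent.TH.E1
import Cfsg.Agent.TH.E2
import Cfsg.Agent.H2.TbE8a

/-! The generators as products of root elements. -/

set_option autoImplicit false
set_option maxRecDepth 100000
set_option Elab.async false

namespace Cfsg.TH.E8

open Cfsg.H6
open Cfsg.Lie H2.Ch

def w1 : List ℕ := [479,474,471,467,464,462,450,460,448,446,441,431,425,419,405,416,398,411,394,392,384,366,409,382,364,323,389,362,377,372,359,318,317,370,353,347,315,368,336,308,302,348,335,307,293,333,305,299,278,269,338,258,294,287,257,326,262,254,324,282,271,261,252,246,240,239,240,240,239,240,322,157,322,322,157,322,247,253,260,270,283,324,255,263,326,256,286,295,259,338,268,279,298,304,333,292,306,335,348,303,309,336,368,314,347,353,370,316,319,359,372,377,362,389,322,364,382,409,366,384,392,394,411,398,416,405,419,425,431,441,446,448,461,450,463,465,466,470,475,478]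

theorem x1 : Nat.beq (trF (img P3 chevE8 tbE8) w1 P3.one) (code 1) = true := by
  decide +kernel

def w2 : List ℕ := [478,472,467,463,451,449,458,440,433,427,431,407,422,418,405,420,416,399,400,397,411,395,385,366,408,391,365,322,388,374,362,321,376,359,356,352,314,369,350,313,349,292,281,340,333,290,269,338,296,289,276,266,258,329,295,265,256,272,262,255,260,252,247,154,196,208,218,227,233,236,217,225,230,235,184,204,214,223,148,182,202,213,221,146,175,189,210,136,145,179,186,198,111,128,134,143,171,177,109,122,126,133,168,102,106,124,161,104,116,71,96,114,156,69,84,87,112,65,66,82,58,77,81,51,56,48,39,36,45,34,21,32,19,16,28,14,11,6,4,1,292,187,292,292,187,292,241,246,261,271,283,325,249,255,273,284,326,257,264,286,295,328,258,288,339,269,290,298,304,333,341,280,301,306,335,343,303,351,369,314,347,352,357,371,318,359,376,361,363,375,388,323,367,384,392,387,396,401,399,403,417,421,405,418,422,424,431,426,440,435,442,454,437,460,450,463,467,468,472,474,479]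

theorem x2 : Nat.beq (trF (img P3 chevE8 tbE8) w2 P3.one) (code 2) = true := by
  decide +kernel

def w3 : List ℕ := [478,476,472,464,462,451,460,447,445,436,434,425,419,421,416,398,413,400,397,387,411,394,385,366,390,383,362,360,320,372,317,357,353,346,315,368,313,302,348,342,334,292,280,333,298,268,296,288,266,259,294,327,284,273,263,244,325,282,271,253,246,242,155,196,209,218,232,237,238,153,195,207,224,234,151,204,215,228,148,190,212,220,139,147,174,180,201,130,144,173,179,198,111,135,167,170,123,127,132,165,168,102,106,120,161,91,101,158,71,115,157,85,94,113,65,67,82,92,62,77,81,51,57,60,74,41,49,54,73,26,25,37,43,20,16,13,8,6,4,0,242,237,242,242,237,242,330,149,330,330,149,330,241,242,252,261,270,283,324,245,248,272,251,256,264,274,286,258,266,277,296,338,268,290,298,305,341,292,300,306,335,342,348,302,308,313,345,350,314,347,352,357,370,319,355,372,361,363,374,379,388,322,382,367,384,395,411,401,399,422,429,406,424,426,441,453,443,455,445,456,448,460,465,467,470,475,477]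

theorem x3 : Nat.beq (trF (img P3 chevE8 tbE8) w3 P3.one) (code 3) = true := by
  decide +kernel

def w4 : List ℕ := [478,471,468,466,463,450,460,449,458,447,436,454,442,435,430,425,406,429,419,421,403,398,415,400,387,393,385,408,323,388,374,361,321,376,372,355,318,316,357,353,346,314,345,312,343,334,301,292,281,341,299,279,269,296,288,277,266,258,328,294,264,285,263,244,325,282,270,252,247,240,154,196,209,227,237,239,194,216,230,150,185,192,205,228,141,149,183,190,212,221,139,147,181,200,137,144,173,186,198,129,135,143,167,170,122,127,132,168,106,121,124,161,162,101,105,119,71,97,99,114,68,84,113,65,67,79,83,93,58,62,80,50,57,61,40,48,54,26,38,24,23,34,21,33,19,31,16,14,8,6,306,173,306,306,173,306,241,253,271,283,325,245,263,256,265,275,286,329,258,266,277,288,296,339,299,304,332,341,281,301,335,348,302,309,337,344,350,310,314,352,357,371,355,359,321,360,362,375,379,364,380,383,408,366,393,401,413,415,399,417,421,405,418,423,406,431,439,426,435,455,436,445,457,448,461,465,468,474,477,479]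

theorem x4 : Nat.beq (trF (img P3 chevE8 tbE8) w4 P3.one) (code 4) = true := by
  decide +kernel

end Cfsg.TH.E8
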