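import Cfsg.Agent.H6.Cert
import Cfsg.Agent.TH.CR

set_option autoImplicit false
set_option maxRecDepth 100000
set_option Elab.async false

namespace Cfsg.H6.THC3

noncomputable def get (y : ℕ) : ℕ := (sel (nat_lit 1) y (nat_lit 0xa0000000000000900000000000008000000000000070000000000000000000000000000000000000000) (nat_lit 0x60000040000040500000400000402000004000004010000040000040400000200000403000004000002030000010000040400000400000106000003000003050000030000030400000300000303000003000003020000020000030100000300000201000001000003020000030000010400000100000203000002000001020000010000020100000200000106000001000002050000020000010500000000000206000002000000060000000000010500000100000004000000000000030000000000000200000000000001000000000000))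
noncomputable def gs (y : ℕ) : ℕ := (sel (nat_lit 2) y (sel (nat_lit 1) y (nat_lit 0x0) (nat_lit 0x0)) (sel (nat_lit 3) y (nat_lit 0x0) (sel (nat_lit 4) y (nat_lit 0x0) (nat_lit 0x800000c800000c800000c800000c800000c800000c800000c800000c800000c800000c800000c800000c800000c800000c800000c800000c800000c800000b000021600002090000219800000a0000216000020b000021980000090000216000020d80000008000008000020e000020900002118000007000020e000020d00002118000006000020e000020b800000080000050000206000020300002058000004000020600002010000205800000300002060000205800000080000008000002000010480000010000102))))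
noncomputable def gd (_y : ℕ) : ℕ := (nat_lit 0x216000020e000020600002040000000)
noncomputable def gwh (y : ℕ) : ℕ := (sel (nat_lit 6) y (sel (nat_lit 3) y (sel (nat_lit 1) y (nat_lit 0x702000001001000) (sel (nat_lit 2) y (nat_lit 0x904000001001001) (nat_lit 0x60606000003000002))) (sel (nat_lit 4) y (nat_lit 0x6020602000004000003) (sel (nat_lit 5) y (nat_lit 0x6040604000004000004) (nat_lit 0x20202000003000005)))) (sel (nat_lit 9) y (sel (nat_lit 7) y (nat_lit 0x2040204000003001006) (sel (nat_lit 8) y (nat_lit 0x2060206000003001003) (nat_lit 0x40404000003000007))) (sel (nat_lit 10) y (nat_lit 0x4020402000004000006) (sel (nat_lit 11) y (nat_lit 0x4060406000003001004) (nat_lit 0x8)))))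
noncomputable def gc (y : ℕ) : ℕ := (sel (nat_lit 3) y (sel (nat_lit 1) y (nat_lit 0x21a000020f0000210000020a0000200) (sel (nat_lit 2) y (nat_lit 0x21b0000211000020b000020e0000201) (nat_lit 0x21700002120000218000020c0000202))) (sel (nat_lit 4) y (nat_lit 0x2190000213000020d00002160000203) (sel (nat_lit 5) y (nat_lit 0x21c0000214000020700002080000204) (nat_lit 0x21d0000215000020900002050000206))))

theorem b0 : allR (blk get gs (gwB gwh 12) gd 10927685746443612200174080) 4 1 = true := by decide +kernel

theorem c0 : allR (clo get gc 5 576 1) 0 6 = true := by decide +kernel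

def sg : List (List ℕ) := [[], [1], [2], [3], [4], [5], [6], [1], [2], [3], [4]]

def BL : List ℕ := [0x207, 0x409, 0x60606, 0x6020602, 0x6040604, 0x20202, 0x4020402, 0x40404, 0x0]

def Sub : List (List ℕ) := [[1], [3]]

theorem hA : prepA 67784688129939343067129679678865920 THR.R sg 10927685746443612200174080 BL Sub get gd = true := by decide +kernel

theorem hw : allR (okW BL gwh) 0 12 = true := by decide +kernel

theorem hb : ∀ b, 4 ≤ b → b < 5 → blk get gs (gwB gwh 12) gd 10927685746443612200174080 b = true :=
  (allR_range b0 (by norm_num : 4 + 1 = 5))

def X : List (List ℕ) := [[1], [3], [5]]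

theorem hC : prepC sg 10927685746443612200174080 X 6 5 1 = true := by decide +kernel

theorem hc : ∀ t, 0 ≤ t → t < 6 * 1 → clo get gc 5 576 1 t = true :=
  (allR_range c0 (by norm_num : 0 + 6 = 6))

theorem cover {G : Type*} [Group G] {ev : ℕ → G} (hev : Good ev 67784688129939343067129679678865920) (hR : Rels ev THR.R) :
    Cover (gen ev Sub) (gen ev X) 5 :=
  cert_cover hev hR hA hC hw hb (by norm_num) hc


end Cfsg.H6.THC3
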